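import Groth.Agent.VarGal.GeomReg
import Mathlib.AlgebraicGeometry.Morphisms.FlatDescent
import Mathlib.AlgebraicGeometry.Morphisms.UniversallyOpen
import Mathlib.AlgebraicGeometry.Morphisms.QuasiCompact

/-!
A quasi-compact morphism is an isomorphism when it is one after flat base changes covering every point.
-/

universe u

open CategoryTheory CategoryTheory.Limits AlgebraicGeometry

namespace Groth.Agent.FlatIso95

theorem isHomeomorph_of_forall {X Y : Scheme.{u}} (f : X ⟶ Y) [QuasiCompact f]
    (H : ∀ y : Y, ∃ (T : Scheme.{u}) (g : T ⟶ Y), Flat g ∧ y ∈ Set.range g ∧ IsIso (pullback.snd f g)) :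
    IsHomeomorph f.base := by
  have hbij : Function.Bijective f.base := by
    constructor
    · intro x₁ x₂ e
      obtain ⟨T, g, _, ⟨y', hy'⟩, h⟩ := H (f x₁)
      obtain ⟨z₁, hz₁, hz₁'⟩ := Scheme.Pullback.exists_preimage_pullback x₁ y' hy'.symm
      obtain ⟨z₂, hz₂, hz₂'⟩ := Scheme.Pullback.exists_preimage_pullback (f := f) x₂ y' (by rw [hy']; exact e.symm)
      rw [← hz₁, ← hz₂, (pullback.snd f g).homeomorph.isHomeomorph.bijective.1 (hz₁'.trans hz₂'.symm)]
    · intro y
      obtain ⟨T, g, _, ⟨y', hy'⟩, h⟩ := H y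
      obtain ⟨z, hz⟩ := (pullback.snd f g).homeomorph.isHomeomorph.bijective.2 y'
      refine ⟨pullback.fst f g z, ?_⟩
      rw [← hy', ← hz]
      exact congr($(pullback.condition (f := f) (g := g)).base z)
  refine isHomeomorph_iff_continuous_isClosedMap_bijective.mpr ⟨f.continuous, ?_, hbij⟩
  refine (isClosedMap_iff_specializingMap f).mpr fun x y₀ hxy => ?_
  obtain ⟨T, g, _, ⟨y₀', hy₀'⟩, h⟩ := H y₀
  obtain ⟨y', hy', hgy'⟩ := Flat.generalizingMap (f := g) (hy₀' ▸ (hxy : f x ⤳ y₀))
  obtain ⟨z, hz, hz'⟩ := Scheme.Pullback.exists_preimage_pullback (f := f) x y' hgy'.symm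
  obtain ⟨z₀, hzz₀, hz₀⟩ := (pullback.snd f g).homeomorph.isHomeomorph.isClosedMap.specializingMap (show (pullback.snd f g).base z ⤳ y₀' from hz' ▸ hy')
  refine ⟨pullback.fst f g z₀, ?_, ?_⟩
  · change x ⤳ _
    rw [← hz]
    exact (hzz₀ : z ⤳ z₀).map (pullback.fst f g).continuous
  · rw [← hy₀', ← hz₀]
    exact congr($(pullback.condition (f := f) (g := g)).base z₀)

theorem isIso_of_forall {X Y : Scheme.{u}} (f : X ⟶ Y) [QuasiCompact f]
    (H : ∀ y : Y, ∃ (T : Scheme.{u}) (g : T ⟶ Y), Flat g ∧ y ∈ Set.range g ∧ IsIso (pullback.snd f g)) :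
    IsIso f := by
  have hh := isHomeomorph_of_forall f H
  have hst : ∀ x, IsIso (f.stalkMap x) := by
    intro x
    obtain ⟨Y', g, _, ⟨y', hy'⟩, hiso⟩ := H (f x)
    let k := Y'.fromSpecStalk y'
    let i := Y.fromSpecStalk (g y')
    let j := Spec.map (g.stalkMap y')
    have hji : j ≫ i = k ≫ g := Scheme.SpecMap_stalkMap_fromSpecStalk g
    have hflat : (g.stalkMap y').hom.Flat := Flat.stalkMap g y'
    have : Flat j := by
      rw [HasRingHomProperty.Spec_iff (P := @Flat)]
      exact hflat
    have : Surjective j := ⟨by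
      algebraize [(g.stalkMap y').hom]
      have : IsLocalHom (algebraMap (Y.presheaf.stalk (g y')) (Y'.presheaf.stalk y')) := g.toLRSHom.prop y'
      have : Module.FaithfullyFlat (Y.presheaf.stalk (g y')) (Y'.presheaf.stalk y') :=
        Module.FaithfullyFlat.of_flat_of_isLocalHom
      exact PrimeSpectrum.comap_surjective_of_faithfullyFlat⟩
    let q := pullback.snd f i
    have hq : IsIso q := by
      have big := (IsPullback.of_hasPullback q j).paste_horiz (IsPullback.of_hasPullback f i)
      rw [hji] at big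
      have other := (IsPullback.of_hasPullback (pullback.snd f g) k).paste_horiz (IsPullback.of_hasPullback f g)
      have e : pullback.snd q j = (big.isoIsPullback _ _ other).hom ≫ pullback.snd (pullback.snd f g) k :=
        (big.isoIsPullback_hom_snd _ _ other).symm
      refine MorphismProperty.of_pullback_snd_of_descendsAlong (P := MorphismProperty.isomorphisms Scheme.{u})
        (Q := @Surjective ⊓ @Flat ⊓ @QuasiCompact) (f := q) (g := j) ⟨⟨inferInstance, inferInstance⟩, inferInstance⟩ ?_
      show IsIso _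
      rw [e]
      infer_instance
    have : Flat i := Groth.Agent.VarGal.flat_fromSpecStalk (g y')
    obtain ⟨z, hz⟩ : ∃ z, pullback.fst f i z = x := by
      obtain ⟨z, hz, -⟩ := Scheme.Pullback.exists_preimage_pullback (f := f) (g := i) x (IsLocalRing.closedPoint _)
        (by rw [Scheme.fromSpecStalk_closedPoint, hy'])
      exact ⟨z, hz⟩
    have key : ∀ {U V : Scheme.{u}} (e : U ⟶ V) [IsPreimmersion e] [Flat e] (w : U), IsIso (e.stalkMap w) :=
      fun e _ _ w => (ConcreteCategory.isIso_iff_bijective _).mpr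
        (Groth.Agent.VarGal.bijective_stalkMap_of_flat_preimmersion e w)
    subst hz
    have := key (pullback.fst f i) z
    have := key i (q z)
    have h1 : IsIso ((q ≫ i).stalkMap z) := by
      rw [Scheme.Hom.stalkMap_comp]
      exact @IsIso.comp_isIso _ _ _ _ _ _ _ (key i (q z)) (inferInstanceAs (IsIso (q.stalkMap z)))
    have h2 : IsIso ((pullback.fst f i ≫ f).stalkMap z) := by
      rw [Scheme.Hom.stalkMap_congr_hom _ _ pullback.condition]
      exact IsIso.comp_isIso
    rw [Scheme.Hom.stalkMap_comp] at h2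
    exact @IsIso.of_isIso_comp_right _ _ _ _ _ _ ((pullback.fst f i).stalkMap z) (key _ z) h2
  have : IsOpenImmersion f := IsOpenImmersion.iff_isIso_stalkMap.mpr ⟨hh.isOpenEmbedding, hst⟩
  exact (isIso_iff_isOpenImmersion_and_surjective f).mpr ⟨this, ⟨hh.surjective⟩⟩

end Groth.Agent.FlatIso95
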